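import Mathlib

/-!
# Orbits of quadratic forms under the general linear group in characteristic two

The orbit of a quadratic form with non-zero polar form over a field with `q` elements, in dimension `n`,
has at least `q (q ^ n - 1) (q ^ (n - 1) - 1) / (2 (q + 1))` members.
-/

set_option autoImplicit false
set_option linter.unusedSectionVars false

namespace Cfsg.Lib.Linear.SpEven

open Module QuadraticMap

universe v

variable {F : Type*} [Field F] [Fintype F] [CharP F 2] {V : Type v} [AddCommGroup V] [Module F V]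

/-- The forms equivalent to `Q`. -/
def orb (Q : QuadraticForm F V) : Set (QuadraticForm F V) :=
  {Q' | ∃ g : V ≃ₗ[F] V, Q' = Q.comp g.toLinearMap}

theorem finite_forms [Module.Finite F V] : Finite (QuadraticForm F V) := by
  haveI : Finite V := Module.finite_of_finite F
  exact Finite.of_injective _ DFunLike.coe_injective

theorem polar_self_zero (Q : QuadraticForm F V) (x : V) : polar Q x x = 0 := by
  rw [QuadraticMap.polar_self, CharTwo.two_nsmul]

theorem exists_apply_ne {W : Type*} [AddCommGroup W] [Module F W] {l : W →ₗ[F] F} (h : l ≠ 0) : ∃ k, l k ≠ 0 := by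
  by_contra hno
  push Not at hno
  exact h (LinearMap.ext fun k => by rw [hno k, LinearMap.zero_apply])

theorem polar_flip (Q : QuadraticForm F V) (x y : V) : polar Q x y = polar Q y x := polar_comm _ x y

theorem quad_comb (Q : QuadraticForm F V) (x y : V) (a b : F) :
    Q (a • x + b • y) = a * a * Q x + b * b * Q y + a * b * polar Q x y := by
  rw [QuadraticMap.map_add (⇑Q), QuadraticMap.map_smul, QuadraticMap.map_smul, QuadraticMap.polar_smul_left,
    QuadraticMap.polar_smul_right]
  simp only [smul_eq_mul]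
  ring

theorem polar_comp (Q : QuadraticForm F V) {W : Type*} [AddCommGroup W] [Module F W] (g : W →ₗ[F] V) (x y : W) :
    polar (Q.comp g) x y = polar Q (g x) (g y) := by
  simp only [polar, QuadraticMap.comp_apply, map_add]

section Decomposition

variable (t : V →ₗ[F] F) {e : V} (he : t e = 1)

/-- The projection on the kernel along `e`. -/
noncomputable def proj : V →ₗ[F] LinearMap.ker t :=
  LinearMap.codRestrict (LinearMap.ker t) (LinearMap.id - t.smulRight e) fun z => by simp [he]

theorem proj_add (z : V) : (proj t he z : V) + t z • e = z := sub_add_cancel z _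

theorem proj_self : proj t he e = 0 := Subtype.ext (show e - t e • e = 0 by rw [he, one_smul, sub_self])

theorem proj_mem (y : LinearMap.ker t) : proj t he (y : V) = y :=
  Subtype.ext (show (y : V) - t (y : V) • e = y by rw [LinearMap.mem_ker.1 y.2, zero_smul, sub_zero])

variable [FiniteDimensional F V]

include he in
theorem exists_glue (σ : LinearMap.ker t ≃ₗ[F] LinearMap.ker t) (h : LinearMap.ker t) :
    ∃ g : V ≃ₗ[F] V, g e = (h : V) + e ∧ ∀ y : LinearMap.ker t, g (y : V) = σ y := by
  obtain ⟨f, hf⟩ : ∃ f : V →ₗ[F] V, ∀ z, f z = (σ (proj t he z) : V) + t z • ((h : V) + e) :=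
    ⟨(LinearMap.ker t).subtype ∘ₗ σ.toLinearMap ∘ₗ proj t he + t.smulRight ((h : V) + e), fun z => rfl⟩
  have hinj : Function.Injective f := by
    refine (injective_iff_map_eq_zero f).2 fun z hz => ?_
    have h1 := congrArg t (hz)
    rw [hf, map_add, map_smul, map_add, LinearMap.mem_ker.1 (σ _).2, LinearMap.mem_ker.1 h.2, he, map_zero,
      zero_add, zero_add, smul_eq_mul, mul_one] at h1
    rw [hf, h1, zero_smul, add_zero, Submodule.coe_eq_zero, LinearEquiv.map_eq_zero_iff] at hz
    rw [← proj_add t he z, hz, h1]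
    simp
  refine ⟨LinearEquiv.ofBijective f ⟨hinj, LinearMap.injective_iff_surjective.1 hinj⟩, ?_, fun y => ?_⟩
  · show f e = _
    rw [hf, proj_self, he]; simp
  · show f (y : V) = _
    rw [hf, proj_mem, LinearMap.mem_ker.1 y.2]; simp

variable (Q : QuadraticForm F V)

/-- The equivalent forms with non-zero polar form on the hyperplane. -/
def bigPart : Set (QuadraticForm F V) :=
  {Q' ∈ orb Q | ∃ x y : LinearMap.ker t, polar Q' (x : V) (y : V) ≠ 0}

/-- The equivalent forms with zero polar form on the hyperplane. -/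
def smallPart : Set (QuadraticForm F V) :=
  {Q' ∈ orb Q | ∀ x y : LinearMap.ker t, polar Q' (x : V) (y : V) = 0}

theorem parts_le : (bigPart t Q).ncard + (smallPart t Q).ncard ≤ (orb Q).ncard := by
  haveI := finite_forms (F := F) (V := V)
  rw [← Set.ncard_union_eq]
  · exact Set.ncard_le_ncard (Set.union_subset (fun _ h => h.1) (fun _ h => h.1))
  · exact Set.disjoint_left.2 fun _ ⟨_, x, y, h⟩ h' => h (h'.2 x y)

include he in
/-- Forms over a given restriction. -/
theorem bigPart_ge (hne : ∃ x y : LinearMap.ker t, polar Q (x : V) (y : V) ≠ 0) {ι : Type*}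
    (s : ι → LinearMap.ker t)
    (hs : ∀ i j, (∀ y : LinearMap.ker t, polar Q ((s i : V) + e) (y : V) = polar Q ((s j : V) + e) (y : V)) →
      Q ((s i : V) + e) = Q ((s j : V) + e) → i = j) :
    (orb (Q.comp (LinearMap.ker t).subtype)).ncard * Nat.card ι ≤ (bigPart t Q).ncard := by
  haveI := finite_forms (F := F) (V := V)
  have hσ : ∀ T : orb (Q.comp (LinearMap.ker t).subtype),
      ∃ σ : LinearMap.ker t ≃ₗ[F] LinearMap.ker t, T.1 = (Q.comp (LinearMap.ker t).subtype).comp σ.toLinearMap :=
    fun T => T.2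
  choose σ hσ' using hσ
  choose g hge hgy using fun (T : orb (Q.comp (LinearMap.ker t).subtype)) (i : ι) => exists_glue t he (σ T) (s i)
  have hmem : ∀ T i, Q.comp (g T i).toLinearMap ∈ bigPart t Q := by
    intro T i
    refine ⟨⟨g T i, rfl⟩, ?_⟩
    obtain ⟨x, y, hxy⟩ := hne
    refine ⟨(σ T).symm x, (σ T).symm y, ?_⟩
    rw [polar_comp, LinearEquiv.coe_coe, hgy, hgy, LinearEquiv.apply_symm_apply, LinearEquiv.apply_symm_apply]
    exact hxy
  rw [← Nat.card_coe_set_eq, ← Nat.card_prod, ← Nat.card_coe_set_eq]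
  refine Nat.card_le_card_of_injective (fun p => ⟨_, hmem p.1 p.2⟩) fun p p' h => ?_
  obtain ⟨T, i⟩ := p
  obtain ⟨T', j⟩ := p'
  have h' := congrArg Subtype.val h
  have hT : T = T' := Subtype.ext (QuadraticMap.ext fun y => by
    have := DFunLike.congr_fun h' (y : V)
    simp only [QuadraticMap.comp_apply, LinearEquiv.coe_coe, hgy] at this
    rw [hσ' T, hσ' T']
    exact this)
  subst hT
  refine Prod.ext rfl (hs i j (fun y => ?_) ?_)
  · have := congrArg (fun Q' : QuadraticForm F V => polar Q' e ((σ T).symm y : V)) h'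
    simp only [polar_comp, LinearEquiv.coe_coe, hge, hgy, LinearEquiv.apply_symm_apply] at this
    exact this
  · have := DFunLike.congr_fun h' e
    simp only [QuadraticMap.comp_apply, LinearEquiv.coe_coe, hge] at this
    exact this

include he in
/-- Forms with totally isotropic hyperplane. -/
theorem smallPart_ge {u v : V} (huv : polar Q u v = 1)
    (hrad : ∀ r, polar Q u r = 0 → polar Q v r = 0 → ∀ y, polar Q r y = 0) :
    Fintype.card F * (Fintype.card F - 1) * (Fintype.card F ^ finrank F (LinearMap.ker t) - 1) ≤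
      2 * (smallPart t Q).ncard := by
  classical
  haveI := finite_forms (F := F) (V := V)
  haveI : Finite V := Module.finite_of_finite F
  haveI := Fintype.ofFinite V
  -- the values on pairs with polar value one
  obtain ⟨P, hP⟩ : ∃ P : Finset (F × F),
      P = (Finset.univ.filter fun w : V × V => polar Q w.1 w.2 = 1).image fun w => (Q w.1, Q w.2) := ⟨_, rfl⟩
  have hPc : Fintype.card F * (Fintype.card F - 1) ≤ 2 * P.card := by
    obtain ⟨z, w, hz, hzw⟩ : ∃ z w, Q z ≠ 0 ∧ polar Q z w = 1 := by
      by_cases h1 : Q u ≠ 0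
      · exact ⟨u, v, h1, huv⟩
      by_cases h2 : Q v ≠ 0
      · exact ⟨v, u, h2, (polar_flip Q v u).trans huv⟩
      push Not at h1 h2
      refine ⟨u + v, v, ?_, ?_⟩
      · rw [QuadraticMap.map_add (⇑Q), h1, h2, huv]; simp
      · rw [QuadraticMap.polar_add_left, huv, polar_self_zero, add_zero]
    obtain ⟨D, hD⟩ : ∃ D : Finset (F × F), D = Finset.univ.filter fun p : F × F => p.1 ≠ 0 := ⟨_, rfl⟩
    have hDc : D.card = Fintype.card F * (Fintype.card F - 1) := by
      rw [hD, show (Finset.univ.filter fun p : F × F => p.1 ≠ 0) = (Finset.univ.filter fun a : F => a ≠ 0) ×ˢ Finset.univ by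
        ext p; simp, Finset.card_product, Finset.filter_ne', Finset.card_erase_of_mem (Finset.mem_univ _),
        Finset.card_univ, mul_comm]
    obtain ⟨f, hf⟩ : ∃ f : F × F → F × F, ∀ p : F × F,
        f p = (Q (p.1 • z), Q (p.1⁻¹ • w + (p.2 * p.1) • z)) := ⟨_, fun p => rfl⟩
    rw [← hDc]
    refine (Finset.card_le_mul_card_image (f := f) D 2 fun M hM => ?_).trans
      (Nat.mul_le_mul_left 2 (Finset.card_le_card fun M hM => ?_))
    · obtain ⟨⟨a, c⟩, hp, rfl⟩ := Finset.mem_image.1 hM
      rw [hD, Finset.mem_filter] at hp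
      refine (Finset.card_le_card (t := {(a, c), (a, c + (a * a * Q z)⁻¹)}) ?_).trans Finset.card_le_two
      rintro ⟨a', c'⟩ hx
      simp only [Finset.mem_filter, hD, Finset.mem_univ, true_and, hf, Prod.mk.injEq, QuadraticMap.map_smul,
        smul_eq_mul, quad_comb, (polar_flip Q w z).trans hzw] at hx
      obtain ⟨ha', e1, e2⟩ := hx
      obtain rfl : a' = a := by
        have : a' ^ 2 = a ^ 2 := mul_right_cancel₀ hz (by linear_combination e1)
        exact CharTwo.sq_injective this
      have e3 : (c - c') * (1 + (c + c') * (a' * a' * Q z)) = 0 := by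
        field_simp at e2
        have hh : (c - c') * (1 + (c + c') * (a' * a' * Q z)) * (a' * a') = 0 := by linear_combination -e2
        exact (mul_eq_zero.1 hh).resolve_right (mul_ne_zero ha' ha')
      simp only [Finset.mem_insert, Finset.mem_singleton, Prod.mk.injEq, true_and]
      rcases mul_eq_zero.1 e3 with h | h
      · exact Or.inl (sub_eq_zero.1 h).symm
      · right
        have hne : a' * a' * Q z ≠ 0 := mul_ne_zero (mul_ne_zero ha' ha') hz
        have h0 : c + c' = (a' * a' * Q z)⁻¹ :=
          eq_inv_of_mul_eq_one_left (by rw [CharTwo.add_eq_zero] at h; exact h.symm)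
        rw [← h0, ← add_assoc, CharTwo.add_self_eq_zero, zero_add]
    · obtain ⟨⟨a, c⟩, hp, rfl⟩ := Finset.mem_image.1 hM
      rw [hD, Finset.mem_filter] at hp
      rw [hf, hP, Finset.mem_image]
      refine ⟨(a • z, a⁻¹ • w + (c * a) • z), Finset.mem_filter.2 ⟨Finset.mem_univ _, ?_⟩, rfl⟩
      show polar Q (a • z) (a⁻¹ • w + (c * a) • z) = 1
      simp only [QuadraticMap.polar_add_right, QuadraticMap.polar_smul_left, QuadraticMap.polar_smul_right,
        polar_self_zero, hzw, smul_eq_mul, mul_zero, add_zero, mul_one]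
      rw [mul_comm]; exact mul_inv_cancel₀ hp.2
  -- the radical
  obtain ⟨R, hR⟩ : ∃ R : Submodule F V, R = LinearMap.ker ((Q.polarBilin u).prod (Q.polarBilin v)) := ⟨_, rfl⟩
  have hRdim : finrank F R + 1 = finrank F (LinearMap.ker t) := by
    have hsurj : LinearMap.range ((Q.polarBilin u).prod (Q.polarBilin v)) = ⊤ := LinearMap.range_eq_top.2 fun p =>
      ⟨p.2 • u + p.1 • v, by simp [polar_self_zero, huv, polar_flip Q v u, CharTwo.two_eq_zero]⟩
    have h1 := LinearMap.finrank_range_add_finrank_ker ((Q.polarBilin u).prod (Q.polarBilin v))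
    rw [hsurj, finrank_top, Module.finrank_prod, Module.finrank_self, ← hR] at h1
    have h2 := LinearMap.finrank_range_add_finrank_ker t
    rw [LinearMap.range_eq_top.2 (fun a => ⟨a • e, by simp [he]⟩ : Function.Surjective t), finrank_top,
      Module.finrank_self] at h2
    omega
  -- the forms
  have hg : ∀ (l : {l : Module.Dual F (LinearMap.ker t) // l ≠ 0}) (p : {p // p ∈ P}),
      ∃ Q' ∈ smallPart t Q, Q' e = p.1.1 ∧ (∀ y : LinearMap.ker t, polar Q' e (y : V) = l.1 y) ∧
        ∀ y : LinearMap.ker t, l.1 y = 1 → (∀ k, k = (exists_apply_ne l.2).choose → y = (l.1 k)⁻¹ • k) →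
          Q' (y : V) = p.1.2 := by
    intro l p
    have hp2 := p.2
    rw [Finset.ext_iff.1 hP p.1, Finset.mem_image] at hp2
    obtain ⟨⟨u', v'⟩, hw, hpe⟩ := hp2
    rw [Finset.mem_filter] at hw
    have hw' : polar Q u' v' = 1 := hw.2
    have hk : l.1 ((exists_apply_ne l.2).choose) ≠ 0 := (exists_apply_ne l.2).choose_spec
    obtain ⟨k, hk'⟩ : ∃ k, k = (exists_apply_ne l.2).choose := ⟨_, rfl⟩
    rw [← hk'] at hk
    obtain ⟨hl, hhl⟩ : ∃ hl, hl = (l.1 k)⁻¹ • k := ⟨_, rfl⟩
    have hl1 : l.1 hl = 1 := by rw [hhl, map_smul, smul_eq_mul, inv_mul_cancel₀ hk]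
    have hKdim : finrank F (LinearMap.ker l.1) = finrank F R := by
      have h1 := LinearMap.finrank_range_add_finrank_ker l.1
      rw [LinearMap.range_eq_top.2 (fun a => ⟨a • hl, by simp [hl1]⟩ : Function.Surjective l.1), finrank_top,
        Module.finrank_self] at h1
      omega
    obtain ⟨φ⟩ := FiniteDimensional.nonempty_linearEquiv_of_finrank_eq hKdim
    obtain ⟨g, hgdef⟩ : ∃ g : V →ₗ[F] V, ∀ z, g z = t z • u' + l.1 (proj t he z) • v' +
        (φ (proj l.1 hl1 (proj t he z)) : V) :=
      ⟨t.smulRight u' + (l.1 ∘ₗ proj t he).smulRight v' +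
        R.subtype ∘ₗ φ.toLinearMap ∘ₗ proj l.1 hl1 ∘ₗ proj t he, fun z => rfl⟩
    have hzero : ∀ r : R, ∀ y, polar Q (r : V) y = 0 := fun r y => by
      have := r.2
      rw [SetLike.ext_iff.1 hR (r : V), LinearMap.mem_ker] at this
      exact hrad _ (congrArg Prod.fst this) (congrArg Prod.snd this) y
    have hzero' : ∀ r : R, ∀ y, polar Q y (r : V) = 0 := fun r y => (polar_flip Q y r).trans (hzero r y)
    have hinj : Function.Injective g := by
      refine (injective_iff_map_eq_zero g).2 fun z hz => ?_
      have e1 := congrArg (fun x => polar Q u' x) hz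
      have e2 := congrArg (fun x => polar Q v' x) hz
      simp only [hgdef, QuadraticMap.polar_add_right, QuadraticMap.polar_smul_right, polar_self_zero, hw', hzero',
        QuadraticMap.polar_zero_right, (polar_flip Q v' u').trans hw', smul_eq_mul, mul_zero, mul_one, add_zero,
        zero_add] at e1 e2
      rw [hgdef, e1, e2] at hz
      simp only [zero_smul, zero_add, Submodule.coe_eq_zero, LinearEquiv.map_eq_zero_iff] at hz
      have := proj_add l.1 hl1 (proj t he z)
      rw [hz, e1, zero_smul, Submodule.coe_zero, add_zero] at this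
      rw [← proj_add t he z, ← this, e2]
      simp
    have hge : g e = u' := by rw [hgdef, proj_self, he]; simp
    have hgy : ∀ y : LinearMap.ker t, g (y : V) = l.1 y • v' + (φ (proj l.1 hl1 y) : V) := fun y => by
      rw [hgdef, proj_mem, LinearMap.mem_ker.1 y.2]; simp
    refine ⟨Q.comp g, ⟨⟨LinearEquiv.ofBijective g ⟨hinj, LinearMap.injective_iff_surjective.1 hinj⟩, rfl⟩,
      fun x y => ?_⟩, ?_, fun y => ?_, fun y _ hy => ?_⟩
    · rw [polar_comp, hgy, hgy]
      simp [QuadraticMap.polar_add_left, QuadraticMap.polar_add_right, QuadraticMap.polar_smul_left,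
        QuadraticMap.polar_smul_right, polar_self_zero, hzero, hzero', CharTwo.two_eq_zero]
    · rw [QuadraticMap.comp_apply, hge, ← hpe]
    · rw [polar_comp, hge, hgy]
      simp [QuadraticMap.polar_add_right, QuadraticMap.polar_smul_right, hw', hzero']
    · rw [hy k hk', ← hhl, QuadraticMap.comp_apply, hgy, hl1, proj_self]
      simp [← hpe]
  choose Q' hmem hQe hQl hQh using hg
  have key : Nat.card ({l : Module.Dual F (LinearMap.ker t) // l ≠ 0} × {p // p ∈ P}) ≤ (smallPart t Q).ncard := by
    rw [← Nat.card_coe_set_eq]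
    refine Nat.card_le_card_of_injective (fun x => ⟨Q' x.1 x.2, hmem _ _⟩) fun x x' h => ?_
    obtain ⟨l, p⟩ := x
    obtain ⟨l', p'⟩ := x'
    have h' : Q' l p = Q' l' p' := congrArg Subtype.val h
    have hl : l = l' := Subtype.ext (LinearMap.ext fun y => by rw [← hQl l p y, ← hQl l' p' y, h'])
    subst hl
    refine Prod.ext rfl (Subtype.ext (Prod.ext ((hQe l p).symm.trans (h' ▸ hQe l p')) ?_))
    have hk := (exists_apply_ne l.2).choose_spec
    obtain ⟨k, hk'⟩ : ∃ k, k = (exists_apply_ne l.2).choose := ⟨_, rfl⟩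
    rw [← hk'] at hk
    have h1 : l.1 ((l.1 k)⁻¹ • k) = 1 := by rw [map_smul, smul_eq_mul, inv_mul_cancel₀ hk]
    exact (hQh l p _ h1 fun _ e => by rw [e, ← hk']).symm.trans (h' ▸ hQh l p' _ h1 fun _ e => by rw [e, ← hk'])
  haveI : Finite (Module.Dual F (LinearMap.ker t)) := Module.finite_of_finite F
  haveI := Fintype.ofFinite (Module.Dual F (LinearMap.ker t))
  have hdual : Nat.card {l : Module.Dual F (LinearMap.ker t) // l ≠ 0} =
      Fintype.card F ^ finrank F (LinearMap.ker t) - 1 := by
    rw [Nat.card_eq_fintype_card, Fintype.card_subtype_compl, Fintype.card_subtype_eq, ← Nat.card_eq_fintype_card,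
      Module.natCard_eq_pow_finrank (K := F), Subspace.dual_finrank_eq, Nat.card_eq_fintype_card]
  rw [Nat.card_prod, Nat.card_eq_fintype_card (α := {p // p ∈ P}), Fintype.card_coe, hdual] at key
  calc Fintype.card F * (Fintype.card F - 1) * (Fintype.card F ^ finrank F (LinearMap.ker t) - 1)
      ≤ 2 * P.card * (Fintype.card F ^ finrank F (LinearMap.ker t) - 1) := Nat.mul_le_mul_right _ hPc
    _ ≤ 2 * (smallPart t Q).ncard := by rw [mul_assoc, mul_comm P.card]; exact Nat.mul_le_mul_left 2 key

end Decomposition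

theorem arith_flat {q a b c A C K O : ℕ} (hq : 2 ≤ q) (ha : a + 1 = q * (b + 1)) (hc : c + 1 = q * (a + 1))
    (hA : q * q * K ≤ A) (hK : q * a * b ≤ 2 * (q + 1) * K) (hC : q * (q - 1) * a ≤ 2 * C) (hO : A + C ≤ O) :
    q * c * a ≤ 2 * (q + 1) * O := by
  obtain ⟨m, rfl⟩ : ∃ m, q = m + 1 := ⟨q - 1, by omega⟩
  simp only [Nat.add_sub_cancel] at hC
  have e : (m + 1) * c * a = (m + 1) * (m + 1) * ((m + 1) * a * b) + (m + 1 + 1) * ((m + 1) * m * a) := by
    have : c = (m + 1) * (m + 1) * b + (m + 1 + 1) * m := by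
      rw [ha] at hc
      have : (m + 1) * (m + 1) * (b + 1) = (m + 1) * (m + 1) * b + (m + 1 + 1) * m + 1 := by ring
      linarith [this]
    rw [this]; ring
  rw [e]
  calc _ ≤ (m + 1) * (m + 1) * (2 * (m + 1 + 1) * K) + (m + 1 + 1) * (2 * C) :=
        Nat.add_le_add (Nat.mul_le_mul_left _ hK) (Nat.mul_le_mul_left _ hC)
    _ = 2 * (m + 1 + 1) * ((m + 1) * (m + 1) * K + C) := by ring
    _ ≤ _ := Nat.mul_le_mul_left _ (le_trans (Nat.add_le_add_right hA C) hO)

theorem arith_deep {q a b c A K O : ℕ} (hq : 2 ≤ q) (hb : 1 ≤ b) (ha : a + 1 = q * (b + 1)) (hc : c + 1 = q * (a + 1))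
    (hA : q * q * q * K ≤ A) (hK : q * a * b ≤ 2 * (q + 1) * K) (hO : A ≤ O) :
    q * c * a ≤ 2 * (q + 1) * O := by
  have h : c ≤ q * q * q * b := by
    have h1 : c + 1 = q * q * b + q * q := by rw [hc, ha]; ring
    have h2 : q * q * b + q * q ≤ q * q * b + q * q * b := Nat.add_le_add_left (Nat.le_mul_of_pos_right _ hb) _
    have h3 : 2 * (q * q * b) ≤ q * (q * q * b) := Nat.mul_le_mul_right _ hq
    have h4 : q * (q * q * b) = q * q * q * b := by ring
    omega
  calc q * c * a ≤ q * (q * q * q * b) * a := Nat.mul_le_mul_right _ (Nat.mul_le_mul_left _ h)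
    _ = q * q * q * (q * a * b) := by ring
    _ ≤ q * q * q * (2 * (q + 1) * K) := Nat.mul_le_mul_left _ hK
    _ = 2 * (q + 1) * (q * q * q * K) := by ring
    _ ≤ _ := Nat.mul_le_mul_left _ (hA.trans hO)

/-- The bound on orbits. -/
theorem orb_ge : ∀ (n : ℕ) (V : Type v) [AddCommGroup V] [Module F V] [FiniteDimensional F V],
    finrank F V = n → ∀ Q : QuadraticForm F V, (∃ x y, polar Q x y ≠ 0) →
      Fintype.card F * (Fintype.card F ^ n - 1) * (Fintype.card F ^ (n - 1) - 1) ≤
        2 * (Fintype.card F + 1) * (orb Q).ncard := by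
  intro n
  induction n with
  | zero => intro V _ _ _ _ Q _; simp
  | succ n ih =>
    intro V _ _ _ hn Q hQ
    obtain ⟨x₀, y₀, hxy⟩ := hQ
    obtain ⟨u, v, huv⟩ : ∃ u v, polar Q u v = 1 := ⟨(polar Q x₀ y₀)⁻¹ • x₀, y₀, by
      rw [QuadraticMap.polar_smul_left, smul_eq_mul, inv_mul_cancel₀ hxy]⟩
    rcases Nat.eq_zero_or_pos n with rfl | hn1
    · simp
    obtain ⟨q, hq⟩ : ∃ q, q = Fintype.card F := ⟨_, rfl⟩
    have hq2 : 2 ≤ q := hq ▸ Fintype.one_lt_card
    have hpos : ∀ k, 1 ≤ q ^ k := fun k => Nat.one_le_pow _ _ (by omega)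
    have hker : ∀ t : V →ₗ[F] F, ∀ e, t e = 1 → finrank F (LinearMap.ker t) = n := fun t e he => by
      have h2 := LinearMap.finrank_range_add_finrank_ker t
      rw [LinearMap.range_eq_top.2 (fun a => ⟨a • e, by simp [he]⟩ : Function.Surjective t), finrank_top,
        Module.finrank_self] at h2
      omega
    have hsub : ∀ (t : V →ₗ[F] F) (e : V), t e = 1 → (∃ x y : LinearMap.ker t, polar Q (x : V) (y : V) ≠ 0) →
        q * (q ^ n - 1) * (q ^ (n - 1) - 1) ≤ 2 * (q + 1) * (orb (Q.comp (LinearMap.ker t).subtype)).ncard := by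
      intro t e he ⟨x, y, h⟩
      rw [hq]
      exact ih _ (hker t e he) _ ⟨x, y, by rw [polar_comp]; exact h⟩
    have ha : q ^ n - 1 + 1 = q * (q ^ (n - 1) - 1 + 1) := by
      rw [Nat.sub_add_cancel (hpos _), Nat.sub_add_cancel (hpos _), ← pow_succ', Nat.sub_add_cancel hn1]
    have hc : q ^ (n + 1) - 1 + 1 = q * (q ^ n - 1 + 1) := by
      rw [Nat.sub_add_cancel (hpos _), Nat.sub_add_cancel (hpos _), pow_succ']
    rw [← hq, Nat.add_sub_cancel]
    by_cases hrad : ∀ r, polar Q u r = 0 → polar Q v r = 0 → ∀ y, polar Q r y = 0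
    · rcases eq_or_lt_of_le (show 1 ≤ n from hn1) with h1 | h1
      · -- the plane
        subst h1
        have ht : Q.polarBilin.flip v u = 1 := huv
        have hS := smallPart_ge (Q.polarBilin.flip v) ht Q huv hrad
        rw [hker _ u ht, ← hq] at hS
        refine arith_flat (A := 0) (K := 0) (b := q ^ (1 - 1) - 1) hq2 ha hc (Nat.zero_le _) (by simp) hS
          (le_trans (by simp) (parts_le (Q.polarBilin.flip v) Q))
      · -- a totally isotropic hyperplane
        obtain ⟨R, hR⟩ : ∃ R : Submodule F V, R = LinearMap.ker ((Q.polarBilin u).prod (Q.polarBilin v)) :=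
          ⟨_, rfl⟩
        obtain ⟨r, hrR, hr⟩ : ∃ r ∈ R, r ≠ 0 := by
          refine Submodule.exists_mem_ne_zero_of_ne_bot fun hbot => ?_
          have h2 := LinearMap.finrank_range_add_finrank_ker ((Q.polarBilin u).prod (Q.polarBilin v))
          have h3 := Submodule.finrank_le (LinearMap.range ((Q.polarBilin u).prod (Q.polarBilin v)))
          rw [Module.finrank_prod, Module.finrank_self] at h3
          rw [← hR, hbot, finrank_bot] at h2
          omega
        rw [hR, LinearMap.mem_ker] at hrR
        replace hrR : polar Q u r = 0 ∧ polar Q v r = 0 := ⟨congrArg Prod.fst hrR, congrArg Prod.snd hrR⟩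
        have hnot : r ∉ Submodule.span F ({u, v} : Set V) := by
          intro h
          obtain ⟨a, b, hab⟩ := Submodule.mem_span_pair.1 h
          have e1 := hrR.1
          have e2 := hrR.2
          simp only [← hab, QuadraticMap.polar_add_right,
            QuadraticMap.polar_smul_right, polar_self_zero, huv, (polar_flip Q v u).trans huv, smul_eq_mul,
            mul_zero, mul_one, zero_add, add_zero] at e1 e2
          exact hr (by rw [← hab, e1, e2]; simp)
        obtain ⟨f, hf, hfS⟩ := Submodule.exists_dual_map_eq_bot_of_notMem hnot inferInstance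
        have hf0 : ∀ x ∈ Submodule.span F ({u, v} : Set V), f x = 0 := fun x hx => by
          have : f x ∈ (Submodule.span F ({u, v} : Set V)).map f := ⟨x, hx, rfl⟩
          rwa [hfS, Submodule.mem_bot] at this
        obtain ⟨t, ht⟩ : ∃ t : V →ₗ[F] F, t = (f r)⁻¹ • f := ⟨_, rfl⟩
        have hte : t r = 1 := by rw [ht, LinearMap.smul_apply, smul_eq_mul, inv_mul_cancel₀ hf]
        have hu : u ∈ LinearMap.ker t := by simp [ht, hf0 u (Submodule.subset_span (by simp))]
        have hv : v ∈ LinearMap.ker t := by simp [ht, hf0 v (Submodule.subset_span (by simp))]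
        have hne : ∃ x y : LinearMap.ker t, polar Q (x : V) (y : V) ≠ 0 :=
          ⟨⟨u, hu⟩, ⟨v, hv⟩, by simp [huv]⟩
        have hA := bigPart_ge t hte Q hne (fun p : F × F => p.1 • (⟨u, hu⟩ : LinearMap.ker t) + p.2 • ⟨v, hv⟩)
          fun i j hB _ => by
            have e1 := hB ⟨v, hv⟩
            have e2 := hB ⟨u, hu⟩
            simp only [Submodule.coe_add, Submodule.coe_smul, QuadraticMap.polar_add_left,
              QuadraticMap.polar_smul_left, polar_self_zero, huv, (polar_flip Q v u).trans huv, smul_eq_mul,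
              mul_zero, mul_one, zero_add, add_zero, add_left_inj] at e1 e2
            exact Prod.ext e1 e2
        rw [Nat.card_prod, Nat.card_eq_fintype_card, ← hq, mul_comm] at hA
        have hS := smallPart_ge t hte Q huv hrad
        rw [hker t r hte, ← hq] at hS
        exact arith_flat hq2 ha hc hA (hsub t r hte hne) hS (parts_le t Q)
    · -- a singular vector outside the radical
      push Not at hrad
      obtain ⟨r₀, hu0, hv0, y₁, hy1⟩ := hrad
      obtain ⟨y', hy'u, hy'v, hy'⟩ : ∃ y', polar Q u y' = 0 ∧ polar Q v y' = 0 ∧ polar Q r₀ y' ≠ 0 := by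
        refine ⟨y₁ - polar Q y₁ v • u - polar Q u y₁ • v, ?_, ?_, ?_⟩
        · simp [QuadraticMap.polar_sub_right, QuadraticMap.polar_smul_right, polar_self_zero, huv, CharTwo.two_eq_zero]
        · simp [QuadraticMap.polar_sub_right, QuadraticMap.polar_smul_right, polar_self_zero,
            (polar_flip Q v u).trans huv, polar_flip Q v y₁, CharTwo.two_eq_zero]
        · simpa [QuadraticMap.polar_sub_right, QuadraticMap.polar_smul_right, polar_flip Q r₀ u, hu0,
            polar_flip Q r₀ v, hv0] using hy1
      obtain ⟨r, e, x, y, hr, hre, hrx, hry, hxy'⟩ : ∃ r e x y, Q r = 0 ∧ polar Q r e = 1 ∧ polar Q r x = 0 ∧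
          polar Q r y = 0 ∧ polar Q x y ≠ 0 := by
        by_cases h0 : Q r₀ = 0
        · exact ⟨r₀, (polar Q r₀ y')⁻¹ • y', u, v, h0, by
            rw [QuadraticMap.polar_smul_right, smul_eq_mul, inv_mul_cancel₀ hy'],
            (polar_flip Q r₀ u).trans hu0, (polar_flip Q r₀ v).trans hv0, by simp [huv]⟩
        obtain ⟨b, hb⟩ := FiniteField.isSquare_of_char_two (ringChar.eq F 2) (Q u / Q r₀)
        refine ⟨u + b • r₀, v, r₀, y' - polar Q (u + b • r₀) y' • v, ?_, ?_, ?_, ?_, ?_⟩
        · rw [QuadraticMap.map_add (⇑Q), QuadraticMap.map_smul, QuadraticMap.polar_smul_right, hu0, ← hb, smul_eq_mul,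
            div_mul_cancel₀ _ h0, smul_eq_mul, mul_zero, add_zero, CharTwo.add_self_eq_zero]
        · rw [QuadraticMap.polar_add_left, QuadraticMap.polar_smul_left, huv, polar_flip Q r₀ v, hv0]; simp
        · rw [QuadraticMap.polar_add_left, QuadraticMap.polar_smul_left, hu0, polar_self_zero]; simp
        · simp [QuadraticMap.polar_sub_right, QuadraticMap.polar_smul_right, QuadraticMap.polar_add_left,
            QuadraticMap.polar_smul_left, huv, polar_flip Q r₀ v, hv0]
        · simpa [QuadraticMap.polar_sub_right, QuadraticMap.polar_smul_right, polar_flip Q r₀ v, hv0] using hy'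
      obtain ⟨t, ht⟩ : ∃ t : V →ₗ[F] F, t = Q.polarBilin r := ⟨_, rfl⟩
      have hte : t e = 1 := by rw [ht]; exact hre
      have hx : x ∈ LinearMap.ker t := by rw [ht, LinearMap.mem_ker]; exact hrx
      have hy : y ∈ LinearMap.ker t := by rw [ht, LinearMap.mem_ker]; exact hry
      have hrr : r ∈ LinearMap.ker t := by rw [ht, LinearMap.mem_ker]; exact polar_self_zero Q r
      have hne : ∃ x y : LinearMap.ker t, polar Q (x : V) (y : V) ≠ 0 := ⟨⟨x, hx⟩, ⟨y, hy⟩, hxy'⟩
      have hA := bigPart_ge t hte Q hne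
        (fun p : F × F × F => p.1 • (⟨x, hx⟩ : LinearMap.ker t) + p.2.1 • ⟨y, hy⟩ + p.2.2 • ⟨r, hrr⟩)
        fun i j hB hQv => by
          obtain ⟨a, b, c⟩ := i
          obtain ⟨a', b', c'⟩ := j
          have e1 := hB ⟨y, hy⟩
          have e2 := hB ⟨x, hx⟩
          simp only [Submodule.coe_add, Submodule.coe_smul, QuadraticMap.polar_add_left,
            QuadraticMap.polar_smul_left, polar_self_zero, hry, hrx, (polar_flip Q y x), smul_eq_mul,
            mul_zero, zero_add, add_zero, add_left_inj] at e1 e2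
          obtain rfl : a = a' := mul_right_cancel₀ hxy' e1
          obtain rfl : b = b' := mul_right_cancel₀ hxy' e2
          have hz : ∀ s : F, Q (a • x + b • y + s • r + e) = Q (a • x + b • y + e) + s := fun s => by
            rw [show a • x + b • y + s • r + e = (a • x + b • y + e) + s • r by abel, QuadraticMap.map_add (⇑Q),
              QuadraticMap.map_smul, hr, QuadraticMap.polar_smul_right]
            simp [QuadraticMap.polar_add_left, QuadraticMap.polar_smul_left, polar_flip Q x r, hrx,
              polar_flip Q y r, hry, polar_flip Q e r, hre]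
          simp only [Submodule.coe_add, Submodule.coe_smul, hz, add_right_inj] at hQv
          rw [hQv]
      rw [Nat.card_prod, Nat.card_prod, Nat.card_eq_fintype_card, ← hq, mul_comm] at hA
      have h2 : 2 ≤ n := by
        by_contra h
        obtain rfl : n = 1 := by omega
        have hspan : ∀ z, ∃ a b : F, a • u + b • v = z := by
          have hli : LinearIndependent F ![u, v] := LinearIndependent.pair_iff.2 fun a b hab => by
            have e1 := congrArg (fun z => polar Q u z) hab
            have e2 := congrArg (fun z => polar Q v z) hab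
            simp only [QuadraticMap.polar_add_right, QuadraticMap.polar_smul_right, polar_self_zero, huv,
              (polar_flip Q v u).trans huv, QuadraticMap.polar_zero_right, smul_eq_mul, mul_zero, mul_one,
              zero_add, add_zero] at e1 e2
            exact ⟨e2, e1⟩
          intro z
          have := hli.span_eq_top_of_card_eq_finrank (by rw [hn, Fintype.card_fin])
          rw [Matrix.range_cons, Matrix.range_cons, Matrix.range_empty, Set.union_empty, Set.singleton_union] at this
          exact Submodule.mem_span_pair.1 (this ▸ Submodule.mem_top)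
        obtain ⟨a, b, rfl⟩ := hspan r₀
        simp only [QuadraticMap.polar_add_right, QuadraticMap.polar_smul_right, polar_self_zero, huv,
          (polar_flip Q v u).trans huv, smul_eq_mul, mul_zero, mul_one, zero_add, add_zero] at hu0 hv0
        exact hy1 (by rw [hu0, hv0]; simp)
      have hb : 1 ≤ q ^ (n - 1) - 1 := by
        have : q ^ 1 ≤ q ^ (n - 1) := Nat.pow_le_pow_right (by omega) (by omega)
        rw [pow_one] at this
        omega
      refine arith_deep (A := (bigPart t Q).ncard) hq2 hb ha hc (le_trans (le_of_eq (by ring)) hA)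
        (hsub t e hte hne) ?_
      exact le_trans (Nat.le_add_right _ _) (parts_le t Q)

end Cfsg.Lib.Linear.SpEven
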