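import Cfsg.Agent.Lib.Linear.CrossCharSymp
import Cfsg.Agent.Lib.Linear.SymplecticGroup
import Cfsg.Agent.Lib.Linear.SpEven.QuadOrbit

/-!
# The least degree of a complex representation of a symplectic group over a field of characteristic two

The Siegel radical is the group of symmetric matrices, whose characters are quadratic forms.
-/

set_option autoImplicit false
set_option linter.unusedSectionVars false

namespace Cfsg.Lib.Linear.SpEven

open Matrix Cfsg.Lib.Linear.CrossCharSymp

variable {F : Type*} [Field F] [Fintype F] [DecidableEq F] {n : ℕ}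

theorem sp_normal [CharP F 2] (h : 3 ≤ n ∨ (2 ≤ n ∧ 2 < Fintype.card F)) (N : Subgroup ↥(symplecticGroup (Fin n) F))
    [N.Normal] : N ≤ Subgroup.center ↥(symplecticGroup (Fin n) F) ∨ N = ⊤ := by
  have hp : commutator (Symp.iso (Symp.spB n F)) = ⊤ := by
    refine Symp.commutator_eq_top (Symp.spB_nondegenerate n F) (Symp.spB_isAlt n F) ?_
    rcases h with h | ⟨h, hq⟩
    · exact Or.inl (by rw [Symp.finrank_space]; omega)
    · refine Or.inr (Or.inl ⟨by rw [Symp.finrank_space]; omega, Or.inr ?_⟩)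
      by_contra hno
      push Not at hno
      have hsub : (Finset.univ : Finset F) ⊆ {0, 1} := fun a _ => by
        by_cases ha : a = 0
        · simp [ha]
        · have : a = 1 := CharTwo.sq_injective (show a ^ 2 = 1 ^ 2 by rw [one_pow]; exact hno a ha)
          simp [this]
      have hle := (Finset.card_le_card hsub).trans Finset.card_le_two
      rw [Finset.card_univ] at hle
      omega
  obtain ⟨e, -⟩ : ∃ e : Symp.iso (Symp.spB n F) ≃* ↥(symplecticGroup (Fin n) F), e = Symp.spEquiv.symm := ⟨_, rfl⟩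
  haveI : (N.comap e.toMonoidHom).Normal := Subgroup.Normal.comap inferInstance _
  rcases Symp.eq_center_or_top (Symp.spB_nondegenerate n F) (Symp.spB_isAlt n F) hp (N.comap e.toMonoidHom) with
    h | h
  · left
    intro x hx
    have hy : e.symm x ∈ Subgroup.center _ := h (by rw [Subgroup.mem_comap]; simpa using hx)
    rw [Subgroup.mem_center_iff] at hy ⊢
    intro y
    exact e.symm.injective (by rw [map_mul, map_mul]; exact hy _)
  · right
    rw [eq_top_iff]
    intro x _
    have : e.symm x ∈ N.comap e.toMonoidHom := h ▸ Subgroup.mem_top _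
    simpa using this

/-- The upper triangle of a matrix, with the diagonal. -/
def upper (N : Matrix (Fin n) (Fin n) F) : Matrix (Fin n) (Fin n) F :=
  Matrix.of fun i j => if i ≤ j then N i j else 0

/-- The symmetric matrix of the form given by a matrix. -/
def symmOf (M : Matrix (Fin n) (Fin n) F) : Matrix (Fin n) (Fin n) F :=
  Matrix.of fun i j => if i = j then M i i else M i j + M j i

theorem symmOf_symm (M : Matrix (Fin n) (Fin n) F) : (symmOf M)ᵀ = symmOf M := by
  ext i j
  simp only [transpose_apply, symmOf, Matrix.of_apply]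
  by_cases h : i = j
  · subst h; rfl
  · rw [if_neg h, if_neg (Ne.symm h), add_comm]

theorem sum_alternating (D K : Matrix (Fin n) (Fin n) F) (hd : ∀ i, D i i = 0) (hD : ∀ i j, D i j + D j i = 0)
    (hK : ∀ i j, K i j = K j i) : ∑ i, ∑ j, D i j * K i j = 0 := by
  rw [← Fintype.sum_prod_type' fun i j => D i j * K i j]
  refine Finset.sum_involution (fun p _ => p.swap) (fun p _ => ?_) (fun p _ hne => ?_) (fun p _ => Finset.mem_univ _)
    fun p _ => Prod.swap_swap p
  · simp only [Prod.fst_swap, Prod.snd_swap]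
    rw [hK p.2 p.1, ← add_mul, hD, zero_mul]
  · intro he
    refine hne ?_
    rw [show p.2 = p.1 from congrArg Prod.fst he, hd, zero_mul]

theorem sum_upper (M K : Matrix (Fin n) (Fin n) F) (hK : ∀ i j, K i j = K j i) :
    ∑ i, ∑ j, upper (symmOf M) i j * K i j = ∑ i, ∑ j, M i j * K i j := by
  have h := sum_alternating (M - upper (symmOf M)) K (fun i => by simp [upper, symmOf]) (fun i j => by
    simp only [Matrix.sub_apply, upper, symmOf, Matrix.of_apply]
    rcases lt_trichotomy i j with h | h | h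
    · rw [if_pos h.le, if_neg h.ne, if_neg (not_le.2 h)]; ring
    · subst h; simp
    · rw [if_neg (not_le.2 h), if_pos h.le, if_neg h.ne]; ring) hK
  simp only [Matrix.sub_apply, sub_mul, Finset.sum_sub_distrib, sub_eq_zero] at h
  exact h.symm

theorem trace_upper (M S : Matrix (Fin n) (Fin n) F) (hS : Sᵀ = S) :
    trace (upper (symmOf M) * S) = trace (M * S) := by
  simp only [trace, diag_apply, Matrix.mul_apply]
  have hK : ∀ i j, S j i = S i j := fun i j => congrFun (congrFun hS i) j
  calc _ = ∑ i, ∑ j, upper (symmOf M) i j * S i j :=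
        Finset.sum_congr rfl fun i _ => Finset.sum_congr rfl fun j _ => by rw [hK i j]
    _ = _ := sum_upper M S fun i j => hK j i
    _ = _ := Finset.sum_congr rfl fun i _ => Finset.sum_congr rfl fun j _ => by rw [hK i j]

theorem trace_upper_comm (N S : Matrix (Fin n) (Fin n) F) (hN : Nᵀ = N) (hS : Sᵀ = S) :
    trace (upper N * S) = trace (upper S * N) := by
  simp only [trace, diag_apply, Matrix.mul_apply, upper, Matrix.of_apply]
  refine Finset.sum_congr rfl fun i _ => Finset.sum_congr rfl fun j _ => ?_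
  have h1 : N j i = N i j := congrFun (congrFun hN i) j
  have h2 : S j i = S i j := congrFun (congrFun hS i) j
  split_ifs
  · rw [h1, h2, mul_comm]
  · rw [zero_mul, zero_mul]

/-- The quadratic form of a matrix. -/
noncomputable def formOf (M : Matrix (Fin n) (Fin n) F) : QuadraticForm F (Fin n → F) :=
  LinearMap.BilinMap.toQuadraticMap (Matrix.toLinearMap₂' F M)

theorem formOf_apply (M : Matrix (Fin n) (Fin n) F) (x : Fin n → F) : formOf M x = x ⬝ᵥ M *ᵥ x := by
  rw [formOf, LinearMap.BilinMap.toQuadraticMap_apply, Matrix.toLinearMap₂'_apply']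

theorem formOf_upper (M : Matrix (Fin n) (Fin n) F) : formOf (upper (symmOf M)) = formOf M := by
  refine QuadraticMap.ext fun x => ?_
  have e : ∀ A : Matrix (Fin n) (Fin n) F, x ⬝ᵥ A *ᵥ x = ∑ i, ∑ j, A i j * (x i * x j) := fun A => by
    simp only [dotProduct, mulVec, Finset.mul_sum]
    exact Finset.sum_congr rfl fun i _ => Finset.sum_congr rfl fun j _ => by ring
  rw [formOf_apply, formOf_apply, e, e]
  exact sum_upper M (Matrix.of fun i j => x i * x j) fun i j => mul_comm _ _

theorem polar_formOf (M : Matrix (Fin n) (Fin n) F) (i j : Fin n) :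
    QuadraticMap.polar (formOf M) (Pi.single i 1) (Pi.single j 1) = M i j + M j i := by
  rw [formOf, LinearMap.BilinMap.polar_toQuadraticMap]
  simp [Matrix.toLinearMap₂'_apply']

set_option maxHeartbeats 1000000 in
/-- The bound on the degree. -/
theorem degree_ge [CharP F 2] (hn : 2 ≤ n) (hsimp : 3 ≤ n ∨ (2 ≤ n ∧ 2 < Fintype.card F)) {d : ℕ}
    (ρ : ↥(symplecticGroup (Fin n) F) →* Module.End ℂ (Fin d → ℂ)) (hρ : ∃ g, ρ g ≠ 1) :
    Fintype.card F * (Fintype.card F ^ n - 1) * (Fintype.card F ^ (n - 1) - 1) ≤ 2 * (Fintype.card F + 1) * d := by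
  classical
  obtain ⟨M₀, hM₀⟩ : ∃ M₀ : ↥(symplecticGroup (Fin n) F) →* Matrix (Fin d) (Fin d) ℂ,
      M₀ = ((LinearMap.toMatrixAlgEquiv' : Module.End ℂ (Fin d → ℂ) ≃ₐ[ℂ] Matrix (Fin d) (Fin d) ℂ) :
        Module.End ℂ (Fin d → ℂ) →* Matrix (Fin d) (Fin d) ℂ).comp ρ := ⟨_, rfl⟩
  have hker : M₀.toHomUnits.ker ≤ Subgroup.center _ := by
    refine ((sp_normal hsimp _)).resolve_right fun htop => ?_
    obtain ⟨g, hg⟩ := hρ
    refine hg (LinearMap.toMatrixAlgEquiv'.injective ?_)
    have h1 := congrArg Units.val (MonoidHom.mem_ker.mp (htop ▸ Subgroup.mem_top g : g ∈ M₀.toHomUnits.ker))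
    rw [MonoidHom.coe_toHomUnits, Units.val_one, hM₀] at h1
    rw [map_one]
    exact h1
  obtain ⟨ψ, hψ⟩ : ∃ ψ : AddChar F ℂ, ∀ c : F, c ≠ 0 → ∃ a, ψ (c * a) ≠ 1 :=
    ⟨AddChar.FiniteField.primitiveChar_to_Complex F, fun c hc => by
      have := AddChar.FiniteField.primitiveChar_to_Complex_isPrimitive F hc
      rwa [AddChar.ne_one_iff] at this⟩
  obtain ⟨χ, hχdef⟩ : ∃ χ : ↥(symm F n) → ↥(symm F n) → ℂ, ∀ N S, χ N S = ψ (trace (upper N.1 * S.1)) :=
    ⟨_, fun N S => rfl⟩
  have hχ : ∀ N a b, χ N (a + b) = χ N a * χ N b := fun N a b => by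
    rw [hχdef, hχdef, hχdef, AddSubgroup.coe_add, mul_add, Matrix.trace_add, AddChar.map_add_eq_mul]
  have hχ0 : ∀ N, χ N 0 = 1 := fun N => by simp [hχdef]
  have hsymm : ∀ N S, χ N S = χ S N := fun N S => by rw [hχdef, hχdef, trace_upper_comm _ _ N.2 S.2]
  have horth : ∀ N, N ≠ 0 → ∑ a, χ N a = 0 := by
    intro N hN
    let Ψ : AddChar ↥(symm F n) ℂ := ⟨χ N, hχ0 N, hχ N⟩
    refine AddChar.sum_eq_zero_of_ne_one (ψ := Ψ) fun h => hN (Subtype.ext ?_)
    have key : ∀ i j, i ≤ j → N.1 i j = 0 := fun i j hij => by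
      by_contra hne
      obtain ⟨c, hc⟩ := hψ _ hne
      obtain ⟨S, hS, hval⟩ : ∃ S ∈ symm F n, trace (upper N.1 * S) = N.1 i j * c := by
        by_cases e : i = j
        · subst e
          exact ⟨Matrix.single i i c, transpose_single i i c, by simp [Matrix.trace_mul_single, upper, mul_comm]⟩
        · refine ⟨Matrix.single i j c + Matrix.single j i c, ?_, ?_⟩
          · show (Matrix.single i j c + Matrix.single j i c)ᵀ = _
            rw [transpose_add, transpose_single, transpose_single, add_comm]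
          · simp [Matrix.mul_add, Matrix.trace_add, Matrix.trace_mul_single, upper, hij,
              not_le.2 (lt_of_le_of_ne hij e), mul_comm]
      have h1 : χ N ⟨S, hS⟩ = 1 := by
        show Ψ ⟨S, hS⟩ = 1
        rw [h, AddChar.one_apply]
      rw [hχdef, hval] at h1
      exact hc h1
    ext i j
    rcases le_total i j with hij | hij
    · exact key i j hij
    · rw [← congrFun (congrFun N.2 i) j, transpose_apply]; exact key j i hij
  obtain ⟨R, hRdef⟩ : ∃ R : ↥(symm F n) → Matrix (Fin d) (Fin d) ℂ,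
      ∀ S, R S = M₀ ⟨fromBlocks 1 S.1 0 1, siegel_mem S.1 S.2⟩ := ⟨_, fun S => rfl⟩
  have hR : ∀ a b, R (a + b) = R a * R b := fun a b => by
    rw [hRdef, hRdef, hRdef, ← map_mul]
    congr 1
    refine Subtype.ext ?_
    rw [Submonoid.coe_mul, fromBlocks_multiply]
    simp [add_comm]
  have hR0 : R 0 = 1 := by
    rw [hRdef, show (⟨fromBlocks 1 (0 : ↥(symm F n)).1 0 1, siegel_mem _ (0 : ↥(symm F n)).2⟩ :
      ↥(symplecticGroup (Fin n) F)) = 1 from Subtype.ext (by simp [fromBlocks_one]), map_one]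
  have hcard : (Fintype.card ↥(symm F n) : ℂ) ≠ 0 := Nat.cast_ne_zero.2 Fintype.card_ne_zero
  -- a character that is non-trivial on a short root element
  obtain ⟨i, hi⟩ : ∃ i : Fin n, i.val = 0 := ⟨⟨0, by omega⟩, rfl⟩
  obtain ⟨j, hj⟩ : ∃ j : Fin n, j.val = 1 := ⟨⟨1, by omega⟩, rfl⟩
  have hij : i < j := Fin.lt_def.2 (by omega)
  obtain ⟨S₀, hS₀⟩ : ∃ S : ↥(symm F n), S.1 = Matrix.single i j 1 + Matrix.single j i 1 :=
    ⟨⟨_, show (Matrix.single i j (1 : F) + Matrix.single j i 1)ᵀ = _ by
      rw [transpose_add, transpose_single, transpose_single, add_comm]⟩, rfl⟩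
  have hne : R S₀ ≠ 1 := by
    intro h1
    have hk : (⟨_, siegel_mem S₀.1 S₀.2⟩ : ↥(symplecticGroup (Fin n) F)) ∈ M₀.toHomUnits.ker := by
      rw [MonoidHom.mem_ker]
      exact Units.ext (by rw [MonoidHom.coe_toHomUnits, ← hRdef, h1, Units.val_one])
    have hcm := congrArg Subtype.val
      (Subgroup.mem_center_iff.mp (hker hk) ⟨Matrix.J (Fin n) F, SymplecticGroup.J_mem (Fin n) F⟩)
    simp only [Submonoid.coe_mul, Matrix.J, fromBlocks_multiply, fromBlocks_inj] at hcm
    simp at hcm
    have := congrFun (congrFun hcm.1 i) j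
    rw [hS₀] at this
    simp [Matrix.single_apply, hij.ne, hij.ne'] at this
  obtain ⟨N, hN, hP⟩ : ∃ N : ↥(symm F n), χ N S₀ ≠ 1 ∧ CharSupport.proj χ R N ≠ 0 := by
    by_contra hno
    push Not at hno
    refine hne (smul_right_injective _ hcard ?_)
    show (Fintype.card ↥(symm F n) : ℂ) • R S₀ = (Fintype.card ↥(symm F n) : ℂ) • 1
    rw [← mul_one (R S₀), ← Matrix.mul_smul, ← CharSupport.sum_proj hχ0 hsymm horth hR0, Finset.mul_sum]
    refine Finset.sum_congr rfl fun w _ => ?_
    rw [CharSupport.mul_proj hχ hχ0 hR]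
    by_cases h : χ w S₀ = 1
    · rw [h, one_smul]
    · rw [hno w h, smul_zero]
  have hNij : N.1 i j ≠ 0 := by
    intro h0
    refine hN ?_
    rw [hχdef, hS₀]
    simp [Matrix.mul_add, Matrix.trace_add, Matrix.trace_mul_single, upper, hij.le, not_le.2 hij, h0]
  -- the occurring characters
  obtain ⟨O, hO⟩ : ∃ O : Finset ↥(symm F n), O = Finset.univ.filter fun N' => CharSupport.proj χ R N' ≠ 0 :=
    ⟨_, rfl⟩
  have hle := CharSupport.card_le hχ hχ0 hsymm horth hR hcard O fun N' hN' => by
    rw [hO, Finset.mem_filter] at hN'; exact hN'.2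
  have hsub : orb (formOf (upper N.1)) ⊆ (fun N' : ↥(symm F n) => formOf (upper N'.1)) '' (O : Set ↥(symm F n)) := by
    rintro _ ⟨g, rfl⟩
    obtain ⟨B, hB⟩ : ∃ B, B = LinearMap.toMatrix' g.toLinearMap := ⟨_, rfl⟩
    obtain ⟨B', hB'⟩ : ∃ B', B' = LinearMap.toMatrix' g.symm.toLinearMap := ⟨_, rfl⟩
    have hBB : B * B' = 1 := by
      rw [hB, hB', ← LinearMap.toMatrix'_comp, LinearEquiv.comp_coe, LinearEquiv.symm_trans_self,
        LinearEquiv.refl_toLinearMap, LinearMap.toMatrix'_id]
    have hB'B : B' * B = 1 := mul_eq_one_comm.mp hBB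
    refine ⟨⟨symmOf (Bᵀ * upper N.1 * B), symmOf_symm _⟩, ?_, ?_⟩
    · rw [Finset.mem_coe, hO, Finset.mem_filter]
      refine ⟨Finset.mem_univ _, ?_⟩
      let act : ↥(symm F n) ≃ ↥(symm F n) :=
        { toFun := fun S => ⟨B' * S.1 * B'ᵀ, conj_symm B' S.2⟩
          invFun := fun S => ⟨B * S.1 * Bᵀ, conj_symm B S.2⟩
          left_inv := fun S => Subtype.ext (by
            show B * (B' * S.1 * B'ᵀ) * Bᵀ = S.1
            rw [← mul_assoc, ← mul_assoc, hBB, one_mul, mul_assoc, ← transpose_mul, hBB, transpose_one, mul_one])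
          right_inv := fun S => Subtype.ext (by
            show B' * (B * S.1 * Bᵀ) * B'ᵀ = S.1
            rw [← mul_assoc, ← mul_assoc, hB'B, one_mul, mul_assoc, ← transpose_mul, hB'B, transpose_one, mul_one]) }
      refine CharSupport.proj_transfer act (fun a => Subtype.ext ?_) (M₀ ⟨_, levi_mem B' B hB'B⟩)
        (M₀ ⟨_, levi_mem B B' hBB⟩) ?_ ?_ ?_ hP
      · show B' * (-a : ↥(symm F n)).1 * B'ᵀ = -(B' * a.1 * B'ᵀ)
        rw [AddSubgroup.coe_neg, mul_neg, neg_mul]
      · rw [← map_mul,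
          show (⟨_, levi_mem B B' hBB⟩ : ↥(symplecticGroup (Fin n) F)) * ⟨_, levi_mem B' B hB'B⟩ = 1 from
            Subtype.ext (by
              rw [Submonoid.coe_mul, fromBlocks_multiply]
              simp [hBB, ← transpose_mul, fromBlocks_one]),
          map_one]
      · intro a
        rw [hRdef, hRdef, ← map_mul, ← map_mul]
        congr 1
        refine Subtype.ext ?_
        rw [Submonoid.coe_mul, Submonoid.coe_mul, fromBlocks_multiply, fromBlocks_multiply]
        simp [act, hB'B, ← transpose_mul]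
      · intro a
        rw [hχdef, hχdef]
        congr 1
        show trace (upper N.1 * a.1) = trace (upper (symmOf (Bᵀ * upper N.1 * B)) * (B' * a.1 * B'ᵀ))
        rw [trace_upper _ _ (conj_symm B' a.2),
          show Bᵀ * upper N.1 * B * (B' * a.1 * B'ᵀ) = Bᵀ * upper N.1 * (B * B') * a.1 * B'ᵀ by
          simp only [Matrix.mul_assoc], hBB, mul_one, Matrix.trace_mul_comm (Bᵀ * upper N.1 * a.1), ← Matrix.mul_assoc,
          ← Matrix.mul_assoc, ← transpose_mul, hBB, transpose_one, one_mul]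
    · show formOf (upper (symmOf (Bᵀ * upper N.1 * B))) = _
      rw [formOf_upper]
      refine QuadraticMap.ext fun x => ?_
      rw [QuadraticMap.comp_apply, formOf_apply, formOf_apply, hB]
      simp only [← Matrix.mulVec_mulVec, LinearMap.toMatrix'_mulVec, LinearEquiv.coe_coe,
        Matrix.dotProduct_transpose_mulVec]
      rw [dotProduct_comm]
  have horb := orb_ge n (Fin n → F) (Module.finrank_fin_fun F) (formOf (upper N.1))
    ⟨Pi.single i 1, Pi.single j 1, by rw [polar_formOf]; simpa [upper, hij.le, not_le.2 hij] using hNij⟩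
  refine horb.trans (Nat.mul_le_mul_left _ ((Set.ncard_le_ncard hsub (O.finite_toSet.image _)).trans
    ((Set.ncard_image_le O.finite_toSet).trans ?_)))
  rw [Set.ncard_coe_finset]
  exact hle

end Cfsg.Lib.Linear.SpEven
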